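import Groth.Agent.ShriekBCLib.Map
import Groth.Agent.EtShLib.RestrPull
import Groth.Agent.EtShLib.ShriekColimMain
import Groth.Agent.EtShLib.Compactif
import Groth.Agent.NagataCompLib.Nagata
import Groth.Agent.S0384

/-!
# Base change for direct images with proper support
-/

set_option autoImplicit false
set_option linter.all false
set_option backward.isDefEq.respectTransparency false
set_option backward.isDefEq.respectTransparency.types false
set_option synthInstance.maxHeartbeats 400000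
set_option maxHeartbeats 1000000

universe u

open CategoryTheory CategoryTheory.Limits AlgebraicGeometry Opposite
open Groth.Agent.EtShLib DescSecLib EtContLib EtBcLimLib

noncomputable section

namespace ShriekBCLib

/-- All base change maps for `f` are surjective on stalks. -/
def Surj {X Y : Scheme.{u}} (f : X ⟶ Y) [LocallyOfFiniteType f] : Prop :=
  ∀ ⦃X' Y' : Scheme.{u}⦄ (g : Y' ⟶ Y) (f' : X' ⟶ Y') [LocallyOfFiniteType f'] (g' : X' ⟶ X)
    (hc : IsPullback g' f' f g) (F : EtCoh.Ab X) (G : EtCoh.Ab X') (u : F ⟶ (EtCoh.push g').obj G)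
    [IsIso (adjL g' u)] (Ω : Type u) [Field Ω] [IsSepClosed Ω] [IsAlgClosed Ω]
    (ξ : Spec (CommRingCat.of Ω) ⟶ Y') (η : Spec (CommRingCat.of Ω) ⟶ Y) (wη : ξ ≫ g = η),
    Function.Surjective (sig g ξ η wη (B hc u))

variable {X Y : Scheme.{u}} {f : X ⟶ Y} [LocallyOfFiniteType f]

section Square

variable {X' Y' : Scheme.{u}} {g : Y' ⟶ Y} {f' : X' ⟶ Y'} [LocallyOfFiniteType f'] {g' : X' ⟶ X}
  (hc : IsPullback g' f' f g) {F : EtCoh.Ab X} {G : EtCoh.Ab X'} (u : F ⟶ (EtCoh.push g').obj G)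
  [IsIso (adjL g' u)]

theorem sig_B_injective {Ω : Type u} [Field Ω] [IsSepClosed Ω] [IsAlgClosed Ω]
    (ξ : Spec (CommRingCat.of Ω) ⟶ Y') (η : Spec (CommRingCat.of Ω) ⟶ Y) (wη : ξ ≫ g = η) :
    Function.Injective (sig g ξ η wη (B hc u)) := by
  intro p q h
  refine comp'_ext f η F fun x => ?_
  let x' : Lifts f' ξ := ⟨hc.lift x.1 ξ (x.2.trans wη.symm), hc.lift_snd _ _ _⟩
  have wx : x'.1 ≫ g' = x.1 := hc.lift_fst _ _ _
  apply (bijective_sig g' x'.1 x.1 wx u).1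
  rw [← comp'_sig_B hc u wη x' x wx, ← comp'_sig_B hc u wη x' x wx, h]

theorem isIso_adjL_B (hf : Surj f) : IsIso (adjL g (B hc u)) :=
  isIso_of_stalks_algClosed _ fun Ω _ _ _ ξ =>
    isIso_of_bijective_sig g ξ (ξ ≫ g) rfl (B hc u)
      ⟨sig_B_injective hc u ξ _ rfl, hf g f' g' hc F G u Ω ξ _ rfl⟩

end Square

theorem surj_of_proper [IsProper f] : Surj f := by
  intro X' Y' g f' _ g' hc F G u _ Ω _ _ _ ξ η wη q
  haveI := isIso_adjL_pSwap_of_proper hc u
  haveI := isIso_preι_of_proper f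
  obtain ⟨a, ha⟩ := (bijective_sig g ξ η wη (pSwap hc.w u)).2
    ((stk (A := AddCommGrpCat.{u + 1}) ξ).map ((preι f').app G) q)
  obtain ⟨p, rfl⟩ := (ConcreteCategory.bijective_of_isIso
    ((stk (A := AddCommGrpCat.{u + 1}) η).map ((preι f).app F))).2 a
  refine ⟨p, ?_⟩
  apply (AddCommGrpCat.mono_iff_injective ((stk (A := AddCommGrpCat.{u + 1}) ξ).map ((preι f').app G))).1
    inferInstance
  rw [map_preι_sig_B, ha]

theorem surj_of_openImmersion [IsOpenImmersion f] : Surj f := by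
  classical
  intro X' Y' g f' _ g' hc F G u _ Ω _ _ _ ξ η wη q
  haveI : IsOpenImmersion f' := MorphismProperty.of_isPullback hc ‹IsOpenImmersion f›
  haveI : LocallyQuasiFinite f := locallyQuasiFinite_of_etale f
  by_cases hne : Nonempty (Lifts f' ξ)
  · obtain ⟨x'⟩ := hne
    let x : Lifts f η := ⟨x'.1 ≫ g', by rw [Category.assoc, hc.w, ← Category.assoc, x'.2, wη]⟩
    obtain ⟨a, ha⟩ := (bijective_sig g' x'.1 x.1 rfl u).2 (comp' f' ξ G x' q)
    refine ⟨injAt f η F x a, comp'_ext f' ξ G fun y => ?_⟩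
    obtain rfl : y = x' := Subtype.ext ((cancel_mono f').1 (y.2.trans x'.2.symm))
    rw [comp'_sig_B hc u wη y x rfl, injAt_comp', ha]
  · refine ⟨0, comp'_ext f' ξ G fun y => absurd ⟨y⟩ hne⟩

theorem surj_comp {Z : Scheme.{u}} {f₁ : X ⟶ Z} {f₂ : Z ⟶ Y} [LocallyOfFiniteType f₁] [LocallyOfFiniteType f₂]
    [IsSeparated f₂] (h₁ : Surj f₁) (h₂ : Surj f₂) : Surj (f₁ ≫ f₂) := by
  intro X' Y' g f' _ g' hc F G u _ Ω _ _ _ ξ η wη q
  let gz : pullback f₂ g ⟶ Z := pullback.fst f₂ g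
  let f₂' : pullback f₂ g ⟶ Y' := pullback.snd f₂ g
  have hc₂ : IsPullback gz f₂' f₂ g := IsPullback.of_hasPullback f₂ g
  obtain ⟨f₁', e, e'⟩ : ∃ f₁' : X' ⟶ pullback f₂ g, f₁' ≫ f₂' = f' ∧ f₁' ≫ gz = g' ≫ f₁ :=
    ⟨pullback.lift (g' ≫ f₁) f' (by rw [Category.assoc]; exact hc.w), pullback.lift_snd _ _ _, pullback.lift_fst _ _ _⟩
  subst e
  have hc₁ : IsPullback g' f₁' f₁ gz := IsPullback.of_bot hc e'.symm hc₂
  haveI : IsSeparated f₂' := MorphismProperty.of_isPullback (P := @IsSeparated) hc₂ ‹_›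
  haveI : LocallyOfFiniteType f₂' := MorphismProperty.of_isPullback (P := @LocallyOfFiniteType) hc₂ ‹_›
  haveI : LocallyOfFiniteType f₁' := MorphismProperty.of_isPullback (P := @LocallyOfFiniteType) hc₁ ‹_›
  haveI := isIso_adjL_B hc₁ u h₁
  obtain ⟨p₂, hp₂⟩ := h₂ g f₂' gz hc₂ _ _ (B hc₁ u) Ω ξ η wη
    ((stk (A := AddCommGrpCat.{u + 1}) ξ).map ((preCompIso f₁' f₂').hom.app G) q)
  refine ⟨(stk (A := AddCommGrpCat.{u + 1}) η).map ((preCompIso f₁ f₂).inv.app F) p₂,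
    comp'_ext (f₁' ≫ f₂') ξ G fun x' => ?_⟩
  let x : Lifts (f₁ ≫ f₂) η := ⟨x'.1 ≫ g', by rw [Category.assoc, hc.w, ← Category.assoc, x'.2, wη]⟩
  let z' : Lifts f₂' ξ := ⟨x'.1 ≫ f₁', (Category.assoc _ _ _).trans x'.2⟩
  let z : Lifts f₂ η := ⟨z'.1 ≫ gz, by rw [Category.assoc, hc₂.w, ← Category.assoc, z'.2, wη]⟩
  have hxz : x.1 ≫ f₁ = z.1 := by
    show (x'.1 ≫ g') ≫ f₁ = (x'.1 ≫ f₁') ≫ gz
    rw [Category.assoc, Category.assoc, hc₁.w]
  have hinv : (stk (A := AddCommGrpCat.{u + 1}) η).map ((preCompIso f₁ f₂).hom.app F)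
      ((stk (A := AddCommGrpCat.{u + 1}) η).map ((preCompIso f₁ f₂).inv.app F) p₂) = p₂ := by
    rw [← ConcreteCategory.comp_apply, ← Functor.map_comp, Iso.inv_hom_id_app, CategoryTheory.Functor.map_id,
      ConcreteCategory.id_apply]
  rw [comp'_sig_B hc u wη x' x rfl, ← comp'_comp f₁ F f₂ x z hxz, hinv,
    ← comp'_comp f₁' G f₂' x' z' rfl q, ← hp₂, comp'_sig_B hc₂ (B hc₁ u) wη z' z rfl]
  erw [comp'_sig_B hc₁ u (rfl : z'.1 ≫ gz = z.1) ⟨x'.1, rfl⟩ ⟨x.1, hxz⟩ rfl]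

theorem surj_of_eq {f₀ : X ⟶ Y} [LocallyOfFiniteType f₀] (e : f₀ = f) (h : Surj f₀) : Surj f := by
  subst e
  exact h

/-- Morphisms from a quasi-compact scheme through an affine open of the base. -/
theorem surj_of_affine (U : Y.Opens) (hU : IsAffineOpen U) [CompactSpace X] [IsSeparated f]
    (h : Set.range f.base ⊆ (U : Set Y)) : Surj f := by
  haveI : IsAffine U.toScheme := hU
  obtain ⟨a, ea⟩ : ∃ a : X ⟶ U.toScheme, a ≫ U.ι = f :=
    ⟨IsOpenImmersion.lift U.ι f (by rwa [Scheme.Opens.range_ι]), IsOpenImmersion.lift_fac _ _ _⟩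
  haveI : IsSeparated (a ≫ U.ι) := by rw [ea]; infer_instance
  haveI : IsSeparated a := IsSeparated.of_comp a U.ι
  haveI : LocallyOfFiniteType (a ≫ U.ι) := by rw [ea]; infer_instance
  haveI : LocallyOfFiniteType a := locallyOfFiniteType_of_comp a U.ι
  haveI : QuasiCompact a := inferInstance
  obtain ⟨Xc, j, fb, hj, -, hfb, e⟩ := Groth.Agent.S0384.result.{u} a
  subst e
  exact surj_of_eq ea (surj_comp (surj_comp surj_of_openImmersion surj_of_proper) surj_of_openImmersion)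

theorem exists_chart {S S' T : Scheme.{u}} (f : S ⟶ Y) (g' : S' ⟶ S) (p : T ⟶ S') (C : Set T) (hC : IsCompact C)
    (η : Y) (hη : ∀ c ∈ C, f.base (g'.base (p.base c)) = η) :
    ∃ (U : Y.Opens) (V : S.Opens), IsAffineOpen U ∧ IsCompact (V : Set S) ∧ f.base '' (V : Set S) ⊆ U ∧
      ∀ c ∈ C, g'.base (p.base c) ∈ V := by
  obtain ⟨U, hU, hηU, -⟩ := exists_isAffineOpen_mem_and_subset (U := (⊤ : Y.Opens)) (x := η) trivial
  let K := (fun c => g'.base (p.base c)) '' C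
  have hK : IsCompact K := hC.image (g'.continuous.comp p.continuous)
  have hsub : K ⊆ (f ⁻¹ᵁ U : S.Opens) := by
    rintro _ ⟨c, hc, rfl⟩
    show f.base (g'.base (p.base c)) ∈ U
    rw [hη c hc]
    exact hηU
  have hA : ∀ k : K, ∃ W : S.Opens, IsAffineOpen W ∧ k.1 ∈ W ∧ W ≤ f ⁻¹ᵁ U := fun k =>
    exists_isAffineOpen_mem_and_subset (hsub k.2)
  choose W hW hkW hWU using hA
  obtain ⟨t, ht⟩ := hK.elim_finite_subcover (fun k => (W k : Set S)) (fun k => (W k).2)
    fun k hk => Set.mem_iUnion.2 ⟨⟨k, hk⟩, hkW ⟨k, hk⟩⟩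
  refine ⟨U, ⟨⋃ k ∈ t, (W k : Set S), isOpen_biUnion fun k _ => (W k).2⟩, hU,
    t.finite_toSet.isCompact_biUnion fun k _ => (hW k).isCompact, ?_, fun c hc => ht ⟨c, hc, rfl⟩⟩
  rintro _ ⟨s, hs, rfl⟩
  obtain ⟨k, hk, hsk⟩ := Set.mem_iUnion₂.1 hs
  exact hWU k hsk

theorem surj_of_separated [IsSeparated f] : Surj f := by
  classical
  intro X' Y' g f' _ g' hc F G u _ Ω _ _ _ ξ η wη q
  haveI : IsSeparated f' := MorphismProperty.of_isPullback (P := @IsSeparated) hc ‹_›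
  -- The chart containing the support.
  obtain ⟨W, w, t, hq⟩ := exists_germ (A := AddCommGrpCat.{u + 1}) ξ q
  obtain ⟨T, i, hi, hr, hp⟩ := ProperOverLib.exists_closedImmersion ((mem_shriekSubgroup_iff G f' W t.1).1 t.2)
  let π := i ≫ EtShriek.prV f' W
  haveI : IsProper π := hp
  obtain ⟨U, X₀, hU, hX₀, hX₀U, hC⟩ := exists_chart f g' (i ≫ pullback.snd W.hom f')
    (π.base ⁻¹' {w.pt}) (π.isCompact_preimage_singleton _) (η.base default) fun c hc' => by
      have e2 : (i ≫ pullback.snd W.hom f') ≫ g' ≫ f = π ≫ W.hom ≫ g := by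
        rw [hc.w, Category.assoc, Category.assoc, ← reassoc_of% pullback.condition (f := W.hom) (g := f')]
      have := congrArg (fun m : T ⟶ Y => m.base c) e2
      simp only [Scheme.Hom.comp_apply] at this ⊢
      rw [this, show π.base c = w.pt from hc', ← wη, Scheme.Hom.comp_apply]
      exact congrArg g.base (congrArg (fun m : Spec (CommRingCat.of Ω) ⟶ Y' => m.base default) w.w)
  have hsupp : ∀ x' : Lifts f' ξ, comp' f' ξ G x' q ≠ 0 → g'.base (x'.1.base default) ∈ X₀ := by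
    intro x' hx'
    rw [← hq, comp'_germ] at hx'
    have hz : (Fib.liftU f' x' w).pt ∈ Set.range i.base := by
      rw [hr]
      exact by_contra fun hn => hx' (germ_eq_zero_of_notMem G t.1 _ hn)
    obtain ⟨c, hc'⟩ := hz
    have h1 : π.base c = w.pt := by
      show (EtShriek.prV f' W).base (i.base c) = _
      rw [hc']
      exact congrArg (fun m : Spec (CommRingCat.of Ω) ⟶ W.left => m.base default) (pullback.lift_fst _ _ _)
    have h2 : (i ≫ pullback.snd W.hom f').base c = x'.1.base default := by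
      rw [Scheme.Hom.comp_apply, hc']
      exact congrArg (fun m : Spec (CommRingCat.of Ω) ⟶ X' => m.base default) (pullback.lift_snd _ _ _)
    rw [← h2]
    exact hC c h1
  -- The square over the chart.
  haveI : CompactSpace X₀.toScheme := isCompact_iff_compactSpace.1 hX₀
  let ι := X₀.ι
  let ι' : pullback ι g' ⟶ X' := pullback.snd ι g'
  let g₀ : pullback ι g' ⟶ X₀.toScheme := pullback.fst ι g'
  have hc₀ : IsPullback g₀ ι' ι g' := IsPullback.of_hasPullback ι g'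
  haveI : IsOpenImmersion ι' := MorphismProperty.of_isPullback hc₀ inferInstance
  let F₀ := (EtCoh.pull ι).obj F
  let u₀ : F₀ ⟶ (EtCoh.push g₀).obj ((EtCoh.pull g₀).obj F₀) := (EtCoh.pullPushAdj g₀).unit.app F₀
  haveI : IsIso (adjL g₀ u₀) := by
    rw [show adjL g₀ u₀ = 𝟙 _ from (EtCoh.pullPushAdj g₀).left_triangle_components F₀]
    infer_instance
  haveI hB₀ : IsIso (adjL g' (B hc₀ u₀)) := isIso_adjL_B hc₀ u₀ surj_of_openImmersion
  obtain ⟨e⟩ := nonempty_pull_iso_restrAlong ι F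
  let k : (preF ι).obj F₀ ⟶ F :=
    (extZeroPreIso ι).inv.app F₀ ≫ (EtShriek.extZero ι).map e.hom ≫ (EtShriek.extZeroAdj ι).counit.app F
  have hk : ∀ {Ω : Type u} [Field Ω] [IsSepClosed Ω] (x : Spec (CommRingCat.of Ω) ⟶ X),
      x.base default ∈ X₀ → Function.Bijective ((stk (A := AddCommGrpCat.{u + 1}) x).map k) := by
    intro Ω _ _ x hx
    haveI := isIso_counit_stalk ι F x (by rw [Scheme.Opens.range_ι]; exact hx)
    haveI : IsIso ((stk (A := AddCommGrpCat.{u + 1}) x).map k) := by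
      rw [Functor.map_comp, Functor.map_comp]
      infer_instance
    exact ConcreteCategory.bijective_of_isIso _
  let M' := (preF ι').obj ((EtCoh.pull g₀).obj F₀)
  let k' : M' ⟶ G := inv (adjL g' (B hc₀ u₀)) ≫ (EtCoh.pull g').map k ≫ adjL g' u
  have hk' : B hc₀ u₀ ≫ (EtCoh.push g').map k' = k ≫ u := by
    apply ((EtCoh.pullPushAdj g').homEquiv _ _).symm.injective
    rw [Adjunction.homEquiv_naturality_right_symm, Adjunction.homEquiv_naturality_left_symm]
    exact IsIso.hom_inv_id_assoc _ _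
  have hsig : ∀ {Ω : Type u} [Field Ω] [IsSepClosed Ω] (x' : Spec (CommRingCat.of Ω) ⟶ X')
      (x : Spec (CommRingCat.of Ω) ⟶ X) (wx : x' ≫ g' = x) a,
      (stk (A := AddCommGrpCat.{u + 1}) x').map k' (sig g' x' x wx (B hc₀ u₀) a) =
        sig g' x' x wx u ((stk (A := AddCommGrpCat.{u + 1}) x).map k a) := fun x' x wx a => by
    rw [← sig_postcomp, hk', sig_precomp]
  have hk'bij : ∀ {Ω : Type u} [Field Ω] [IsSepClosed Ω] (x' : Spec (CommRingCat.of Ω) ⟶ X'),
      g'.base (x'.base default) ∈ X₀ → Function.Bijective ((stk (A := AddCommGrpCat.{u + 1}) x').map k') := by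
    intro Ω _ _ x' hx
    refine Function.Bijective.of_comp_iff _ (bijective_sig g' x' (x' ≫ g') rfl (B hc₀ u₀)) |>.1 ?_
    have : (stk (A := AddCommGrpCat.{u + 1}) x').map k' ∘ sig g' x' (x' ≫ g') rfl (B hc₀ u₀) =
        sig g' x' (x' ≫ g') rfl u ∘ (stk (A := AddCommGrpCat.{u + 1}) (x' ≫ g')).map k :=
      funext fun a => hsig x' _ rfl a
    rw [this]
    exact (bijective_sig g' x' _ rfl u).comp (hk (x' ≫ g') hx)
  have hk'zero : ∀ {Ω : Type u} [Field Ω] [IsSepClosed Ω] [IsAlgClosed Ω] (x' : Spec (CommRingCat.of Ω) ⟶ X'),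
      g'.base (x'.base default) ∉ X₀ → ∀ a : (stk (A := AddCommGrpCat.{u + 1}) x').obj M', a = 0 := by
    intro Ω _ _ _ x' hx a
    refine stalk_eq_zero_of_notMem ι' x' _ ?_ a
    rintro ⟨z, hz⟩
    refine hx ?_
    rw [← hz, ← Scheme.Hom.comp_apply, ← hc₀.w, Scheme.Hom.comp_apply]
    exact (g₀.base z).2
  haveI : Mono k' := mono_of_stalks_algClosed k' fun Ω _ _ _ x' => by
    by_cases hx : g'.base (x'.base default) ∈ X₀
    · exact (hk'bij x' hx).1
    · exact fun a b _ => (hk'zero x' hx a).trans (hk'zero x' hx b).symm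
  -- The element comes from the chart.
  haveI := preservesFiniteLimits_preF f'
  let S : ShortComplex (EtCoh.Ab X') := ShortComplex.mk k' (cokernel.π k') (cokernel.condition k')
  have hS : S.Exact := ShortComplex.exact_of_g_is_cokernel S (cokernelIsCokernel k')
  obtain ⟨q₁, hq₁⟩ : ∃ q₁, (stk (A := AddCommGrpCat.{u + 1}) ξ).map ((preF f').map k') q₁ = q := by
    haveI : Mono ((preF f').map k') := (preservesMonomorphisms_preF f').preserves k'
    have hS' : ((S.map (preF f')).map (stk (A := AddCommGrpCat.{u + 1}) ξ)).Exact :=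
      ((S.map (preF f')).exact_and_mono_f_iff_f_is_kernel.2
        ⟨KernelFork.mapIsLimit _ hS.fIsKernel (preF f')⟩).1.map _
    rw [ShortComplex.ab_exact_iff] at hS'
    refine hS' q ?_
    show (stk (A := AddCommGrpCat.{u + 1}) ξ).map ((preF f').map (cokernel.π k')) q = 0
    refine eq_zero_of_comp' f' ξ _ _ fun x' => ?_
    rw [comp'_natural]
    by_cases h0 : comp' f' ξ G x' q = 0
    · rw [h0, map_zero]
    · obtain ⟨a, ha⟩ := (hk'bij x'.1 (hsupp x' h0)).2 (comp' f' ξ G x' q)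
      rw [← ha, ← ConcreteCategory.comp_apply, ← Functor.map_comp, cokernel.condition, Functor.map_zero]
      rfl
  -- Base change over the chart.
  haveI : IsSeparated (ι ≫ f) := inferInstance
  have hchart : Surj (ι ≫ f) := surj_of_affine U hU (by
    rintro _ ⟨z, rfl⟩
    exact hX₀U ⟨_, z.2, rfl⟩)
  have hcc : IsPullback g₀ (ι' ≫ f') (ι ≫ f) g := hc₀.paste_vert hc
  haveI : LocallyOfFiniteType (ι' ≫ f') := inferInstance
  obtain ⟨p₂, hp₂⟩ := hchart g (ι' ≫ f') g₀ hcc F₀ _ u₀ Ω ξ η wη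
    ((stk (A := AddCommGrpCat.{u + 1}) ξ).map ((preCompIso ι' f').inv.app _) q₁)
  let p₁ := (stk (A := AddCommGrpCat.{u + 1}) η).map ((preCompIso ι f).hom.app F₀) p₂
  have hp₁ : sig g ξ η wη (B hc (B hc₀ u₀)) p₁ = q₁ := by
    refine comp'_ext f' ξ _ fun x' => ?_
    let x : Lifts f η := ⟨x'.1 ≫ g', by rw [Category.assoc, hc.w, ← Category.assoc, x'.2, wη]⟩
    rw [comp'_sig_B hc (B hc₀ u₀) wη x' x rfl]
    refine comp'_ext ι' x'.1 _ fun z' => ?_
    let z : Lifts ι x.1 := ⟨z'.1 ≫ g₀, by rw [Category.assoc, hc₀.w, ← Category.assoc, z'.2]⟩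
    let zc : Lifts (ι ≫ f) η := ⟨z.1, by rw [← Category.assoc, z.2]; exact x.2⟩
    let zc' : Lifts (ι' ≫ f') ξ := ⟨z'.1, by rw [← Category.assoc, z'.2]; exact x'.2⟩
    rw [comp'_sig_B hc₀ u₀ (rfl : x'.1 ≫ g' = x.1) z' z rfl]
    have e1 := comp'_comp ι F₀ f zc x z.2 p₂
    have e2 := comp'_comp ι' _ f' zc' x' z'.2
      ((stk (A := AddCommGrpCat.{u + 1}) ξ).map ((preCompIso ι' f').inv.app _) q₁)
    rw [← ConcreteCategory.comp_apply ((stk (A := AddCommGrpCat.{u + 1}) ξ).map _), ← Functor.map_comp,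
      Iso.inv_hom_id_app, CategoryTheory.Functor.map_id, ConcreteCategory.id_apply] at e2
    refine (congrArg (sig g₀ z'.1 z.1 rfl u₀) e1).trans (Eq.trans ?_ e2.symm)
    rw [← hp₂, comp'_sig_B hcc u₀ wη zc' zc rfl]
  refine ⟨(stk (A := AddCommGrpCat.{u + 1}) η).map ((preF f).map k) p₁, comp'_ext f' ξ G fun x' => ?_⟩
  let x : Lifts f η := ⟨x'.1 ≫ g', by rw [Category.assoc, hc.w, ← Category.assoc, x'.2, wη]⟩
  rw [comp'_sig_B hc u wη x' x rfl, comp'_natural, ← hsig x'.1 x.1 rfl,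
    ← comp'_sig_B hc (B hc₀ u₀) wη x' x rfl, hp₁, ← comp'_natural, hq₁]

/-- Base change for `f_!`. -/
theorem nonempty_iso {X' Y' : Scheme.{u}} {g : Y' ⟶ Y} {f' : X' ⟶ Y'} {g' : X' ⟶ X}
    (hc : IsPullback g' f' f g) [IsSeparated f] (F : EtCoh.Ab X) :
    haveI : LocallyOfFiniteType f' := MorphismProperty.of_isPullback hc ‹_›
    Nonempty ((preF f').obj ((EtCoh.pull g').obj F) ≅ (EtCoh.pull g).obj ((preF f).obj F)) := by
  haveI : LocallyOfFiniteType f' := MorphismProperty.of_isPullback hc ‹_›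
  let u : F ⟶ (EtCoh.push g').obj ((EtCoh.pull g').obj F) := (EtCoh.pullPushAdj g').unit.app F
  haveI : IsIso (adjL g' u) := by
    rw [show adjL g' u = 𝟙 _ from (EtCoh.pullPushAdj g').left_triangle_components F]
    infer_instance
  haveI := isIso_adjL_B hc u surj_of_separated
  exact ⟨(asIso (adjL g (B hc u))).symm⟩

end ShriekBCLib
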