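import Groth.Agent.EtShLib.LqfShriek
import Groth.Agent.EtShLib.ShriekComp
import Groth.Agent.EtShLib.ExtZeroLower
import Mathlib.AlgebraicGeometry.AlgClosed.Basic

/-!
# Values of sections with proper support at the geometric points of a fibre

For `f` locally of finite type and a geometric point `ξ` over an algebraically closed field, the
values at the lifts of `ξ` separate the stalk at `ξ` of the sheaf of sections with proper support.
-/

set_option autoImplicit false
set_option linter.all false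
set_option backward.isDefEq.respectTransparency false
set_option backward.isDefEq.respectTransparency.types false
set_option synthInstance.maxHeartbeats 400000
set_option maxHeartbeats 1000000

universe u

open CategoryTheory CategoryTheory.Limits AlgebraicGeometry Opposite
open Groth.Agent.EtShLib

noncomputable section

namespace ShriekBCLib

/-- Lifts of a geometric point. -/
abbrev Lifts {X Y : Scheme.{u}} (f : X ⟶ Y) {Ω : Type u} [Field Ω] (ξ : Spec (CommRingCat.of Ω) ⟶ Y) :
    Type u := {u : Spec (CommRingCat.of Ω) ⟶ X // u ≫ f = ξ}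

theorem exists_point_over {T W : Scheme.{u}} (p : T ⟶ W) [LocallyOfFiniteType p] {Ω : Type u} [Field Ω]
    [IsAlgClosed Ω] (w : Spec (CommRingCat.of Ω) ⟶ W) (x : T) (hx : p.base x = w.base default) :
    ∃ q : Spec (CommRingCat.of Ω) ⟶ T, q ≫ p = w := by
  obtain ⟨z, -, -⟩ := Scheme.Pullback.exists_preimage_pullback (f := p) (g := w) x default hx
  haveI : JacobsonSpace ↥(pullback p w) := LocallyOfFiniteType.jacobsonSpace (pullback.snd p w)
  obtain ⟨c, -, hc⟩ := nonempty_inter_closedPoints (X := ↥(pullback p w)) (Z := Set.univ) ⟨z, trivial⟩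
    isClosed_univ.isLocallyClosed
  refine ⟨pointOfClosedPoint (pullback.snd p w) c hc ≫ pullback.fst p w, ?_⟩
  rw [Category.assoc, pullback.condition, pointOfClosedPoint_comp_assoc]

variable {X Y : Scheme.{u}} (f : X ⟶ Y) [LocallyOfFiniteType f]
  {Ω : Type u} [Field Ω] [IsSepClosed Ω] (ξ : Spec (CommRingCat.of Ω) ⟶ Y)

/-- The points of the fibre of a neighbourhood over a geometric point which lie in the support. -/
theorem exists_lift_mem_supp [IsAlgClosed Ω] (F : EtCoh.Ab X) (W : Y.Etale) (w : Fib ξ W)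
    (t : F.obj.obj (op ((EtCoh.bc f).obj W))) {z : ((EtCoh.bc f).obj W).left}
    (hz : z ∈ EtShriek.sectSupp F ((EtCoh.bc f).obj W) t) (hzw : (EtShriek.prV f W).base z = w.pt) :
    ∃ u : Lifts f ξ, (Fib.liftU f u w).pt ∈ EtShriek.sectSupp F ((EtCoh.bc f).obj W) t := by
  let Z : TopologicalSpace.Closeds ((EtCoh.bc f).obj W).left :=
    ⟨_, isClosed_sectSupp F ((EtCoh.bc f).obj W) t⟩
  let i := (Scheme.IdealSheafData.vanishingIdeal Z).subschemeι
  have hr : Set.range i.base = (Z : Set ((EtCoh.bc f).obj W).left) :=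
    ProperOverLib.range_subschemeι_vanishingIdeal _
  haveI : LocallyOfFiniteType (i ≫ EtShriek.prV f W) := inferInstance
  obtain ⟨x, hx⟩ := hr.superset hz
  obtain ⟨q, hq⟩ := exists_point_over (i ≫ EtShriek.prV f W) w.hom x (by
    rw [Scheme.Hom.comp_apply, hx]
    exact hzw)
  refine ⟨⟨q ≫ i ≫ pullback.snd W.hom f, ?_⟩, ?_⟩
  · rw [Category.assoc, Category.assoc, ← pullback.condition, ← Category.assoc, ← Category.assoc]
    exact (congrArg (· ≫ W.hom) ((Category.assoc _ _ _).trans hq)).trans w.w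
  · have e : pullback.lift w.hom (q ≫ i ≫ pullback.snd W.hom f) (by
        rw [Category.assoc, Category.assoc, ← pullback.condition, ← Category.assoc i, ← Category.assoc q, hq])
        = q ≫ i := by
      apply pullback.hom_ext
      · rw [pullback.lift_fst, Category.assoc]
        exact hq.symm
      · rw [pullback.lift_snd, Category.assoc]
    show (pullback.lift w.hom (q ≫ i ≫ pullback.snd W.hom f) _).base default ∈ _
    rw [e, Scheme.Hom.comp_apply]
    exact hr.subset ⟨_, rfl⟩

variable (F : EtCoh.Ab X)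

theorem eq_zero_of_comp' [IsAlgClosed Ω] (p : (stk (A := AddCommGrpCat.{u + 1}) ξ).obj ((preF f).obj F))
    (h : ∀ u : Lifts f ξ, comp' f ξ F u p = 0) : p = 0 := by
  obtain ⟨W, w, t, rfl⟩ := exists_germ (A := AddCommGrpCat.{u + 1}) ξ p
  refine (germ_eq_zero_of_notMem ((preF f).obj F) (U := W) t w ?_)
  rw [sectSupp_pre f F W t]
  rintro ⟨z, hz, hzw⟩
  obtain ⟨u, hu⟩ := exists_lift_mem_supp f ξ F W w t.1 hz hzw
  exact notMem_sectSupp_of_germ F t.1 (Fib.liftU f u w) ((comp'_germ f ξ F u W w t).symm.trans (h u)) hu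

theorem comp'_ext [IsAlgClosed Ω] {p q : (stk (A := AddCommGrpCat.{u + 1}) ξ).obj ((preF f).obj F)}
    (h : ∀ u : Lifts f ξ, comp' f ξ F u p = comp' f ξ F u q) : p = q :=
  sub_eq_zero.1 (eq_zero_of_comp' f ξ F _ fun u => by rw [map_sub, h u, sub_self])

theorem comp'_comp {Z : Scheme.{u}} (g : Y ⟶ Z) [LocallyOfFiniteType g] [IsSeparated g]
    {η : Spec (CommRingCat.of Ω) ⟶ Z} (x : Lifts (f ≫ g) η) (z : Lifts g η) (hz : x.1 ≫ f = z.1)
    (p : (stk (A := AddCommGrpCat.{u + 1}) η).obj ((preF (f ≫ g)).obj F)) :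
    comp' f z.1 F ⟨x.1, hz⟩ (comp' g η ((preF f).obj F) z
        ((stk (A := AddCommGrpCat.{u + 1}) η).map ((preCompIso f g).hom.app F) p)) =
      comp' (f ≫ g) η F x p := by
  obtain ⟨V, v, t, rfl⟩ := exists_germ (A := AddCommGrpCat.{u + 1}) η p
  rw [germ_natural_apply]
  erw [comp'_germ g η ((preF f).obj F) z V v]
  erw [comp'_germ f z.1 F ⟨x.1, hz⟩]
  rw [comp'_germ]
  show germ (A := AddCommGrpCat.{u + 1}) x.1 F _ _ (F.obj.map ((bcComp f g).hom.app V).op t.1) = _
  rw [germ_res_apply]
  refine congrArg (fun v' => germ (A := AddCommGrpCat.{u + 1}) x.1 F _ v' t.1) (Fib.ext ?_)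
  rw [Fib.map_hom]
  apply pullback.hom_ext
  · refine (Category.assoc _ _ _).trans ((congrArg (_ ≫ ·) (bcComp_pr f g V)).trans ?_)
    refine (Category.assoc _ _ _).symm.trans ((congrArg (· ≫ _) (pullback.lift_fst _ _ _)).trans ?_)
    exact (pullback.lift_fst _ _ _).trans (pullback.lift_fst _ _ _).symm
  · refine (Category.assoc _ _ _).trans ((congrArg (_ ≫ ·) (MorphismProperty.Over.w ((bcComp f g).hom.app V))).trans ?_)
    exact (pullback.lift_snd _ _ _).trans (pullback.lift_snd _ _ _).symm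

/-- Stalks over algebraically closed fields detect monomorphisms. -/
theorem mono_of_stalks_algClosed {S : Scheme.{u}} {A B : EtCoh.Ab S} (φ : A ⟶ B)
    (h : ∀ (Ω : Type u) [Field Ω] [IsSepClosed Ω] [IsAlgClosed Ω] (ξ : Spec (CommRingCat.of Ω) ⟶ S),
      Function.Injective ((stk (A := AddCommGrpCat.{u + 1}) ξ).map φ)) : Mono φ := by
  refine (mono_iff_stalks (A := AddCommGrpCat.{u + 1}) φ).2 fun Ω _ _ ξ => ?_
  let ξ' := Spec.map (CommRingCat.ofHom (algebraMap Ω (AlgebraicClosure Ω))) ≫ ξ
  obtain ⟨e⟩ := nonempty_stk_iso_of_eq (A := AddCommGrpCat.{u + 1}) (ξ := ξ) (ξ' := ξ') (by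
    show ξ.base ((Spec.map (CommRingCat.ofHom (algebraMap Ω (AlgebraicClosure Ω)))).base default) = _
    exact congrArg ξ.base (Subsingleton.elim (α := Spec (CommRingCat.of Ω)) _ _))
  haveI : Mono ((stk (A := AddCommGrpCat.{u + 1}) ξ').map φ) :=
    (AddCommGrpCat.mono_iff_injective _).2 (h _ ξ')
  rw [← NatIso.naturality_2 e φ]
  infer_instance

/-- An element of the stalk at a geometric point outside the image of an immersion is zero. -/
theorem stalk_eq_zero_of_notMem [IsAlgClosed Ω] (h : ξ.base default ∉ Set.range f.base)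
    (p : (stk (A := AddCommGrpCat.{u + 1}) ξ).obj ((preF f).obj F)) : p = 0 :=
  eq_zero_of_comp' f ξ F p fun u => absurd ⟨u.1.base default,
    congrArg (fun t : Spec (CommRingCat.of Ω) ⟶ Y => t.base default) u.2⟩ h

end ShriekBCLib
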