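import Groth.Agent.ShriekBCLib.Ev
import Groth.Agent.EtBcLimLib.Sig
import Groth.Agent.EtBcLimLib.Push
import Groth.Agent.EtProperH0Lib.Main

/-!
# The base change map for sections with proper support
-/

set_option autoImplicit false
set_option linter.all false
set_option backward.isDefEq.respectTransparency false
set_option backward.isDefEq.respectTransparency.types false
set_option synthInstance.maxHeartbeats 400000
set_option maxHeartbeats 1000000

universe u

open CategoryTheory CategoryTheory.Limits AlgebraicGeometry Opposite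
open Groth.Agent.EtShLib DescSecLib EtContLib EtBcLimLib

noncomputable section

namespace ShriekBCLib

variable {X Y X' Y' : Scheme.{u}} {f : X ⟶ Y} {g : Y' ⟶ Y} {f' : X' ⟶ Y'} {g' : X' ⟶ X}

/-- `f_* F ⟶ g_* f'_* G` attached to `u : F ⟶ g'_* G`. -/
def pSwap (w : g' ≫ f = f' ≫ g) {F : EtCoh.Ab X} {G : EtCoh.Ab X'} (u : F ⟶ (EtCoh.push g').obj G) :
    (EtCoh.push f).obj F ⟶ (EtCoh.push g).obj ((EtCoh.push f').obj G) :=
  (EtCoh.push f).map u ≫ (EtBcQLib.sqα f g f' g' w).app G

theorem pSwap_apply (w : g' ≫ f = f' ≫ g) {F : EtCoh.Ab X} {G : EtCoh.Ab X'} (u : F ⟶ (EtCoh.push g').obj G)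
    (V : Y.Etale) (s : F.obj.obj (op ((EtCoh.bc f).obj V))) :
    (pSwap w u).hom.app (op V) s =
      G.obj.map (sqI f f' g g' w V).op (u.hom.app (op ((EtCoh.bc f).obj V)) s) := by
  show ((EtBcQLib.sqα f g f' g' w).app G).hom.app (op V) (u.hom.app (op ((EtCoh.bc f).obj V)) s) = _
  exact ConcreteCategory.congr_hom (sqα_app f f' g g' w G V) _

theorem isIso_adjL_pSwap_of_proper (hc : IsPullback g' f' f g) [IsProper f] {F : EtCoh.Ab X} {G : EtCoh.Ab X'}
    (u : F ⟶ (EtCoh.push g').obj G) [IsIso (adjL g' u)] : IsIso (adjL g (pSwap hc.w u)) := by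
  have e0 : pSwap hc.w u =
      pSwap hc.w ((EtCoh.pullPushAdj g').unit.app F) ≫ (EtCoh.push g).map ((EtCoh.push f').map (adjL g' u)) := by
    have hu : u = (EtCoh.pullPushAdj g').unit.app F ≫ (EtCoh.push g').map (adjL g' u) :=
      ((Equiv.apply_symm_apply ((EtCoh.pullPushAdj g').homEquiv F G) u).symm.trans
        (Adjunction.homEquiv_unit _ _ _ _))
    conv_lhs => rw [hu]
    rw [pSwap, pSwap, Functor.map_comp, Category.assoc, Category.assoc]
    exact congrArg ((EtCoh.push f).map _ ≫ ·) ((EtBcQLib.sqα f g f' g' hc.w).naturality (adjL g' u))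
  have e1 : adjL g (pSwap hc.w ((EtCoh.pullPushAdj g').unit.app F)) =
      EtCoh.baseChange0 f g f' g' hc.w F := rfl
  haveI := EtProperH0Lib.isIso_baseChange0 hc F
  rw [e0]
  have e2 : adjL g (pSwap hc.w ((EtCoh.pullPushAdj g').unit.app F) ≫
      (EtCoh.push g).map ((EtCoh.push f').map (adjL g' u))) =
      EtCoh.baseChange0 f g f' g' hc.w F ≫ (EtCoh.push f').map (adjL g' u) :=
    (Adjunction.homEquiv_naturality_right_symm _ _ _).trans (congrArg (· ≫ _) e1)
  exact (congrArg (fun t => IsIso t) e2).mpr inferInstance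

variable {Ω : Type u} [Field Ω] [IsSepClosed Ω]

theorem liftGerm_pSwap (w : g' ≫ f = f' ≫ g) {F : EtCoh.Ab X} {G : EtCoh.Ab X'}
    (u : F ⟶ (EtCoh.push g').obj G) {ξ : Spec (CommRingCat.of Ω) ⟶ Y'} {η : Spec (CommRingCat.of Ω) ⟶ Y}
    (wη : ξ ≫ g = η) (x' : Lifts f' ξ) (x : Lifts f η) (wx : x'.1 ≫ g' = x.1)
    (q : (stk (A := AddCommGrpCat.{u + 1}) η).obj ((EtCoh.push f).obj F)) :
    liftGerm f' G ξ x' (sig g ξ η wη (pSwap w u) q) = sig g' x'.1 x.1 wx u (liftGerm f F η x q) := by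
  obtain ⟨V, v, s, rfl⟩ := exists_germ (A := AddCommGrpCat.{u + 1}) η q
  rw [germ_sig, liftGerm_germ f F η x V v s, germ_sig]
  erw [liftGerm_germ f' G ξ x' _ _]
  rw [pSwap_apply, germ_res_apply]
  refine congrArg (fun t => germ (A := AddCommGrpCat.{u + 1}) x'.1 G _ t (u.hom.app _ s)) (Fib.ext ?_)
  rw [Fib.map_hom]
  apply pullback.hom_ext
  · apply pullback.hom_ext
    · simp only [Category.assoc]
      erw [sqI_fst_fst f f' g g' w V]
      simp only [Fib.liftU, liftW, Fib.mk_hom]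
      erw [pullback.lift_fst_assoc, pullback.lift_fst, pullback.lift_fst_assoc, pullback.lift_fst]
    · simp only [Category.assoc]
      have e1 : (sqI f f' g g' w V).left ≫ pullback.fst ((EtCoh.bc f).obj V).hom g' ≫ pullback.snd V.hom f =
          pullback.snd ((EtCoh.bc g).obj V).hom f' ≫ g' := by
        refine (congrArg ((sqI f f' g g' w V).left ≫ ·) pullback.condition).trans ?_
        rw [← Category.assoc]
        exact congrArg (· ≫ g') (MorphismProperty.Over.w (sqI f f' g g' w V))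
      erw [e1]
      simp only [Fib.liftU, liftW, Fib.mk_hom]
      erw [pullback.lift_snd_assoc, pullback.lift_fst_assoc, pullback.lift_snd]
      exact wx
  · refine (Category.assoc _ _ _).trans ((congrArg (_ ≫ ·) (MorphismProperty.Over.w (sqI f f' g g' w V))).trans ?_)
    simp only [Fib.liftU, liftW, Fib.mk_hom]
    exact (pullback.lift_snd _ _ _).trans (pullback.lift_snd _ _ _).symm

variable [LocallyOfFiniteType f] [LocallyOfFiniteType f']

/-- The base change of a section with proper support has proper support. -/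
theorem pSwap_mem (hc : IsPullback g' f' f g) {F : EtCoh.Ab X} {G : EtCoh.Ab X'}
    (u : F ⟶ (EtCoh.push g').obj G) (V : Y.Etale) (s : F.obj.obj (op ((EtCoh.bc f).obj V)))
    (hs : s ∈ EtShriek.shriekSubgroup f F V) :
    (pSwap hc.w u).hom.app (op V) s ∈ EtShriek.shriekSubgroup f' G ((EtCoh.bc g).obj V) := by
  obtain ⟨T, i, hi, hr, hp⟩ := ProperOverLib.exists_closedImmersion ((mem_shriekSubgroup_iff F f V s).1 hs)
  let c := sqI f f' g g' hc.w V
  let m := c.left ≫ pullback.fst ((EtCoh.bc f).obj V).hom g'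
  have hm1 : m ≫ pullback.fst V.hom f = pullback.fst ((EtCoh.bc g).obj V).hom f' ≫ pullback.fst V.hom g :=
    (Category.assoc _ _ _).trans (sqI_fst_fst f f' g g' hc.w V)
  have hm2 : m ≫ pullback.snd V.hom f = pullback.snd ((EtCoh.bc g).obj V).hom f' ≫ g' := by
    refine (Category.assoc _ _ _).trans ((congrArg (c.left ≫ ·) pullback.condition).trans ?_)
    rw [← Category.assoc]
    exact congrArg (· ≫ g') (MorphismProperty.Over.w c)
  have hsq : IsPullback m (EtShriek.prV f' ((EtCoh.bc g).obj V)) (EtShriek.prV f V)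
      (pullback.fst V.hom g : ((EtCoh.bc g).obj V).left ⟶ V.left) := by
    refine IsPullback.of_right (h₁₂ := pullback.snd V.hom f) (v₁₃ := f) (h₂₂ := V.hom) ?_ hm1
      (IsPullback.of_hasPullback V.hom f).flip
    have hbig := (IsPullback.of_hasPullback ((EtCoh.bc g).obj V).hom f').flip.paste_horiz hc
    exact (congrArg₂ (fun a b => IsPullback a (EtShriek.prV f' ((EtCoh.bc g).obj V)) f b) hm2
      (pullback.condition (f := V.hom) (g := g))).mpr hbig
  have h1 : IsPullback (pullback.fst i m) (pullback.snd i m) i m := IsPullback.of_hasPullback i m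
  haveI : IsProper (pullback.snd i m ≫ EtShriek.prV f' ((EtCoh.bc g).obj V)) :=
    MorphismProperty.of_isPullback (P := @IsProper) (h1.paste_vert hsq) hp
  haveI : IsClosedImmersion (pullback.snd i m) := MorphismProperty.pullback_snd _ _ hi
  rw [mem_shriekSubgroup_iff]
  refine ProperOverLib.of_map (pullback.snd i m) _ _ (isClosed_sectSupp G _ _) fun z hz => ?_
  rw [Scheme.Pullback.range_snd, Set.mem_preimage, hr]
  by_contra hn
  obtain ⟨Ω', _, _, ζ, z', rfl⟩ := exists_geometric (U := (EtCoh.bc f').obj ((EtCoh.bc g).obj V)) z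
  refine notMem_sectSupp_of_germ G _ z' ?_ hz
  rw [pSwap_apply, germ_res_apply]
  let v := (z'.map c).proj g' ζ
  have hv : liftW g' ζ (ζ ≫ g') rfl v = z'.map c := Fib.lift_proj g' ζ (z'.map c)
  rw [← hv, ← germ_sig g' ζ (ζ ≫ g') rfl u ((EtCoh.bc f).obj V) v s]
  have hv0 : germ (A := AddCommGrpCat.{u + 1}) (ζ ≫ g') F ((EtCoh.bc f).obj V) v s = 0 := by
    refine germ_eq_zero_of_notMem F s v ?_
    intro h
    refine hn ?_
    show m.base (z'.hom.base default) ∈ _
    have e : (z'.hom ≫ c.left) ≫ pullback.fst ((EtCoh.bc f).obj V).hom g' = z'.hom ≫ m := Category.assoc _ _ _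
    exact (congrArg (fun t : Spec (CommRingCat.of Ω') ⟶ ((EtCoh.bc f).obj V).left => t.base default) e) ▸ h
  rw [hv0, map_zero]

/-- The base change map `f_! F ⟶ g_* f'_! G`. -/
def B (hc : IsPullback g' f' f g) {F : EtCoh.Ab X} {G : EtCoh.Ab X'} (u : F ⟶ (EtCoh.push g').obj G) :
    (preF f).obj F ⟶ (EtCoh.push g).obj ((preF f').obj G) :=
  ObjectProperty.homMk
    { app := fun W => AddCommGrpCat.ofHom
        ((((pSwap hc.w u).hom.app W).hom.comp (EtShriek.shriekSubgroup f F W.unop).subtype).codRestrict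
          (EtShriek.shriekSubgroup f' G ((EtCoh.bc g).obj W.unop)) fun s => pSwap_mem hc u W.unop s.1 s.2)
      naturality := fun W W' a => by
        ext s
        apply Subtype.ext
        exact ConcreteCategory.congr_hom ((pSwap hc.w u).hom.naturality a) s.1 }

theorem B_preι (hc : IsPullback g' f' f g) {F : EtCoh.Ab X} {G : EtCoh.Ab X'}
    (u : F ⟶ (EtCoh.push g').obj G) :
    B hc u ≫ (EtCoh.push g).map ((preι f').app G) = (preι f).app F ≫ pSwap hc.w u := by
  refine Sheaf.hom_ext ?_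
  ext W : 2
  ext s
  rfl

theorem map_preι_sig_B (hc : IsPullback g' f' f g) {F : EtCoh.Ab X} {G : EtCoh.Ab X'}
    (u : F ⟶ (EtCoh.push g').obj G) {ξ : Spec (CommRingCat.of Ω) ⟶ Y'} {η : Spec (CommRingCat.of Ω) ⟶ Y}
    (wη : ξ ≫ g = η) (p : (stk (A := AddCommGrpCat.{u + 1}) η).obj ((preF f).obj F)) :
    (stk (A := AddCommGrpCat.{u + 1}) ξ).map ((preι f').app G) (sig g ξ η wη (B hc u) p) =
      sig g ξ η wη (pSwap hc.w u) ((stk (A := AddCommGrpCat.{u + 1}) η).map ((preι f).app F) p) := by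
  rw [← sig_postcomp, B_preι, sig_precomp]

theorem comp'_sig_B (hc : IsPullback g' f' f g) {F : EtCoh.Ab X} {G : EtCoh.Ab X'}
    (u : F ⟶ (EtCoh.push g').obj G) {ξ : Spec (CommRingCat.of Ω) ⟶ Y'} {η : Spec (CommRingCat.of Ω) ⟶ Y}
    (wη : ξ ≫ g = η) (x' : Lifts f' ξ) (x : Lifts f η) (wx : x'.1 ≫ g' = x.1)
    (p : (stk (A := AddCommGrpCat.{u + 1}) η).obj ((preF f).obj F)) :
    comp' f' ξ G x' (sig g ξ η wη (B hc u) p) = sig g' x'.1 x.1 wx u (comp' f η F x p) := by
  refine (congrArg (liftGerm f' G ξ x') (map_preι_sig_B hc u wη p)).trans ?_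
  exact liftGerm_pSwap hc.w u wη x' x wx _

end ShriekBCLib
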